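import Mathlib

/-!
# Binary coset actions

Transport along conjugation, the configuration of one moved and many fixed points, and a counting bound
`[G : H]² ≤ |H| r³`, `r` the number of `H`-orbits.
-/

set_option autoImplicit false

namespace CfsgLib.BinaryAct

variable {G : Type*} [Group G]

/-- The action on the cosets of `H` has relational complexity two. -/
def IsBinary (H : Subgroup G) : Prop :=
  ∀ (n : ℕ) (I J : Fin n → G ⧸ H), 2 ≤ n →
    (∀ i j : Fin n, i ≠ j → ∃ g : G, g • I i = J i ∧ g • I j = J j) → ∃ g : G, ∀ i, g • I i = J i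

theorem smul_eq_iff {H : Subgroup G} (g x y : G) :
    g • (x : G ⧸ H) = (y : G ⧸ H) ↔ y⁻¹ * g * x ∈ H := by
  rw [MulAction.Quotient.smul_mk, smul_eq_mul, QuotientGroup.eq, ← H.inv_mem_iff, mul_inv_rev,
    inv_inv, mul_assoc]

theorem IsBinary.of_index {H : Subgroup G} (hb : IsBinary H) {ι : Type*} [Finite ι]
    (hι : 2 ≤ Nat.card ι) (I J : ι → G ⧸ H)
    (hp : ∀ i j, i ≠ j → ∃ g : G, g • I i = J i ∧ g • I j = J j) :
    ∃ g : G, ∀ i, g • I i = J i := by
  haveI := Fintype.ofFinite ι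
  let e := Fintype.equivFin ι
  obtain ⟨g, hg⟩ := hb _ (I ∘ e.symm) (J ∘ e.symm) (by rwa [← Nat.card_eq_fintype_card])
    fun i j hij => hp _ _ (fun h => hij (e.symm.injective h))
  exact ⟨g, fun i => by simpa using hg (e i)⟩

theorem IsBinary.map {H : Subgroup G} (hb : IsBinary H) (k : G) :
    IsBinary (H.map (MulAut.conj k).toMonoidHom) := by
  intro n I J hn hp
  have key : ∀ (g : G) (x y : G ⧸ H.map (MulAut.conj k).toMonoidHom),
      g • x = y ↔ g • ((x.out * k : G) : G ⧸ H) = ((y.out * k : G) : G ⧸ H) := by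
    intro g x y
    conv_lhs => rw [← QuotientGroup.out_eq' x, ← QuotientGroup.out_eq' y]
    rw [smul_eq_iff, smul_eq_iff, Subgroup.mem_map_equiv, MulAut.conj_symm_apply, mul_inv_rev]
    simp only [mul_assoc]
  obtain ⟨g, hg⟩ := hb n (fun i => (((I i).out * k : G) : G ⧸ H))
    (fun i => (((J i).out * k : G) : G ⧸ H)) hn fun i j hij => by
      obtain ⟨g, h1, h2⟩ := hp i j hij
      exact ⟨g, (key _ _ _).1 h1, (key _ _ _).1 h2⟩
  exact ⟨g, fun i => (key _ _ _).2 (hg i)⟩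

/-- One moved point and a family of fixed points, besides the base point. -/
theorem IsBinary.exists_fix {H : Subgroup G} (hb : IsBinary H) {ι : Type*} [Finite ι]
    (p : ι → G) (xc a : G) (ha : a ∈ H)
    (hpair : ∀ i, ∃ g, (p i)⁻¹ * g * p i ∈ H ∧ xc⁻¹ * (g⁻¹ * a) * xc ∈ H) :
    ∃ g ∈ H, (∀ i, (p i)⁻¹ * g * p i ∈ H) ∧ xc⁻¹ * (g⁻¹ * a) * xc ∈ H := by
  let I : Option (Option ι) → G ⧸ H := fun
    | none => (xc : G ⧸ H)
    | some none => ((1 : G) : G ⧸ H)
    | some (some i) => (p i : G ⧸ H)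
  let J : Option (Option ι) → G ⧸ H := fun
    | none => ((a * xc : G) : G ⧸ H)
    | some none => ((1 : G) : G ⧸ H)
    | some (some i) => (p i : G ⧸ H)
  have hmove : ∀ g : G, g • (xc : G ⧸ H) = ((a * xc : G) : G ⧸ H) ↔
      xc⁻¹ * (g⁻¹ * a) * xc ∈ H := fun g => by
    rw [smul_eq_iff, ← H.inv_mem_iff, mul_inv_rev, mul_inv_rev, inv_inv]
    simp only [mul_assoc]
  obtain ⟨g, hg⟩ := hb.of_index (ι := Option (Option ι))
    (by
      haveI := Fintype.ofFinite ι
      rw [Nat.card_eq_fintype_card, Fintype.card_option, Fintype.card_option]; omega) I J (by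
    rintro (_ | _ | i) (_ | _ | j) hij
    · exact absurd rfl hij
    · exact ⟨a, (hmove a).2 (by simp), (smul_eq_iff _ _ _).2 (by simpa using ha)⟩
    · obtain ⟨g, h1, h2⟩ := hpair j
      exact ⟨g, (hmove g).2 h2, (smul_eq_iff _ _ _).2 h1⟩
    · exact ⟨a, (smul_eq_iff _ _ _).2 (by simpa using ha), (hmove a).2 (by simp)⟩
    · exact absurd rfl hij
    · exact ⟨1, one_smul _ _, one_smul _ _⟩
    · obtain ⟨g, h1, h2⟩ := hpair i
      exact ⟨g, (smul_eq_iff _ _ _).2 h1, (hmove g).2 h2⟩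
    · exact ⟨1, one_smul _ _, one_smul _ _⟩
    · exact ⟨1, one_smul _ _, one_smul _ _⟩)
  refine ⟨g, ?_, fun i => (smul_eq_iff _ _ _).1 (hg (some (some i))), (hmove g).1 (hg none)⟩
  simpa using (smul_eq_iff _ _ _).1 (hg (some none))

/-- Counting bound for a binary action. -/
theorem IsBinary.index_sq_le [Finite G] {H : Subgroup G} (hb : IsBinary H) {r : ℕ}
    (hr : Nat.card (MulAction.orbitRel.Quotient ↥H (G ⧸ H)) ≤ r) :
    H.index ^ 2 ≤ Nat.card ↥H * r ^ 3 := by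
  classical
  haveI := Fintype.ofFinite (G ⧸ H)
  haveI := Fintype.ofFinite ↥H
  haveI := Fintype.ofFinite (MulAction.orbitRel.Quotient ↥H (G ⧸ H))
  let Q := MulAction.orbitRel.Quotient ↥H (G ⧸ H)
  let cls : G ⧸ H → Q := Quotient.mk _
  let f : (G ⧸ H) × (G ⧸ H) → Q × Q × Q := fun p => (cls p.1, cls p.2, cls (p.1.out⁻¹ • p.2))
  have hfib : ∀ b ∈ (Finset.univ : Finset ((G ⧸ H) × (G ⧸ H))).image f,
      (Finset.univ.filter fun p => f p = b).card ≤ Nat.card ↥H := by
    intro b hb'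
    obtain ⟨⟨y, z⟩, -, rfl⟩ := Finset.mem_image.1 hb'
    rw [Nat.card_eq_fintype_card, ← Finset.card_univ]
    refine le_trans (Finset.card_le_card ?_)
      (Finset.card_image_le (f := fun h : ↥H => ((h • y, h • z) : (G ⧸ H) × (G ⧸ H))))
    rintro ⟨y', z'⟩ hmem
    obtain ⟨e1, e23⟩ := Prod.ext_iff.1 (Finset.mem_filter.1 hmem).2
    obtain ⟨e2, e3⟩ := Prod.ext_iff.1 e23
    obtain ⟨h1, hh1⟩ : ∃ h : ↥H, h • y = y' :=
      MulAction.orbitRel_apply.1 (Quotient.exact e1)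
    obtain ⟨h2, hh2⟩ : ∃ h : ↥H, h • z = z' :=
      MulAction.orbitRel_apply.1 (Quotient.exact e2)
    obtain ⟨h3, hh3⟩ : ∃ h : ↥H, h • (y.out⁻¹ • z) = y'.out⁻¹ • z' :=
      MulAction.orbitRel_apply.1 (Quotient.exact e3)
    have hg1 : (y'.out * (h3 : G) * y.out⁻¹) • y = y' := by
      conv_lhs => arg 2; rw [← QuotientGroup.out_eq' y]
      conv_rhs => rw [← QuotientGroup.out_eq' y']
      rw [smul_eq_iff]
      simpa [mul_assoc] using h3.2
    have hg2 : (y'.out * (h3 : G) * y.out⁻¹) • z = z' := by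
      rw [mul_smul, mul_smul]
      exact (congrArg (y'.out • ·) hh3).trans (smul_inv_smul _ _)
    have hbase : ∀ h : ↥H, (h : G) • ((1 : G) : G ⧸ H) = ((1 : G) : G ⧸ H) := fun h =>
      (smul_eq_iff _ _ _).2 (by simpa using h.2)
    obtain ⟨g, hg⟩ := hb 3 ![((1 : G) : G ⧸ H), y, z] ![((1 : G) : G ⧸ H), y', z'] (by norm_num) (by
      intro i j hij
      fin_cases i <;> fin_cases j <;> first
        | exact absurd rfl hij
        | exact ⟨h1, hbase h1, hh1⟩
        | exact ⟨h1, hh1, hbase h1⟩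
        | exact ⟨h2, hbase h2, hh2⟩
        | exact ⟨h2, hh2, hbase h2⟩
        | exact ⟨_, hg1, hg2⟩
        | exact ⟨_, hg2, hg1⟩)
    refine Finset.mem_image.2 ⟨⟨g, by simpa using (smul_eq_iff _ _ _).1 (hg 0)⟩, Finset.mem_univ _,
      Prod.ext (hg 1) (hg 2)⟩
  have h1 := Finset.card_le_mul_card_image (Finset.univ : Finset ((G ⧸ H) × (G ⧸ H)))
    (f := f) (Nat.card ↥H) hfib
  have h2 : (Finset.univ.image f).card ≤ r ^ 3 := by
    refine le_trans (Finset.card_le_univ _) ?_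
    rw [Fintype.card_prod, Fintype.card_prod, ← Nat.card_eq_fintype_card,
      show r ^ 3 = r * (r * r) by ring]
    exact Nat.mul_le_mul hr (Nat.mul_le_mul hr hr)
  rw [Finset.card_univ, Fintype.card_prod, ← Nat.card_eq_fintype_card, ← Subgroup.index_eq_card,
    ← pow_two] at h1
  exact h1.trans (Nat.mul_le_mul_left _ h2)

end CfsgLib.BinaryAct
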