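import Cfsg.Agent.Lib.BinaryAct.Basic

/-!
An elementary abelian trivial intersection subgroup containing every involution normalising it gives a
binary coset action.
-/

set_option autoImplicit false

namespace CfsgLib.BinaryAct

variable {G : Type*} [Group G]

/-- A trivial intersection subgroup `H` of exponent two which contains every involution of its
normaliser gives a binary action; `M` stands for the normaliser. -/
theorem isBinary_of_elementary_ti {H : Subgroup G} (hsq : ∀ w ∈ H, w * w = 1)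
    (hTI : ∀ x : G, (∀ z, z ∈ H ↔ x⁻¹ * z * x ∈ H) ∨ ∀ z ∈ H, x⁻¹ * z * x ∈ H → z = 1)
    (hinv : ∀ v : G, v * v = 1 → (∀ z, z ∈ H ↔ v⁻¹ * z * v ∈ H) → v ∈ H) : IsBinary H := by
  classical
  intro n I J hn hp
  haveI : NeZero n := ⟨by omega⟩
  obtain ⟨x₀, hx₀⟩ := QuotientGroup.mk_surjective (I 0)
  obtain ⟨y₀, hy₀⟩ := QuotientGroup.mk_surjective (J 0)
  -- coordinates based at the first pair
  choose x hx using fun i => QuotientGroup.mk_surjective (x₀⁻¹ • I i)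
  choose y hy using fun i => QuotientGroup.mk_surjective (y₀⁻¹ • J i)
  have htrans : ∀ (g : G) i, g • I i = J i ↔ (y i)⁻¹ * (y₀⁻¹ * g * x₀) * x i ∈ H := fun g i => by
    rw [← smul_eq_iff, hx, hy, mul_smul, mul_smul, smul_inv_smul]
    exact ⟨fun h => by rw [h], fun h => smul_left_cancel _ h⟩
  have hbase : ∀ g : G, g • I 0 = J 0 ↔ y₀⁻¹ * g * x₀ ∈ H := fun g => by
    rw [← hx₀, ← hy₀, smul_eq_iff]
  have h0 : ∃ g : G, g • I 0 = J 0 := by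
    obtain ⟨g, hg, -⟩ := hp 0 ⟨1, by omega⟩ (by simp [Fin.ext_iff])
    exact ⟨g, hg⟩
  have hgen : ∀ i, ∃ z ∈ H, (y i)⁻¹ * z * x i ∈ H := by
    intro i
    rcases eq_or_ne i 0 with rfl | hi
    · obtain ⟨g, hg⟩ := h0
      exact ⟨_, (hbase g).1 hg, (htrans g 0).1 hg⟩
    · obtain ⟨g, h1, h2⟩ := hp 0 i (Ne.symm hi)
      exact ⟨_, (hbase g).1 h1, (htrans g i).1 h2⟩
  suffices ∃ z ∈ H, ∀ i, (y i)⁻¹ * z * x i ∈ H by
    obtain ⟨z, hz, hzi⟩ := this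
    refine ⟨y₀ * z * x₀⁻¹, fun i => (htrans _ i).2 ?_⟩
    rw [show y₀⁻¹ * (y₀ * z * x₀⁻¹) * x₀ = z by group]
    exact hzi i
  let Good : Fin n → Prop := fun i => ∀ z, z ∈ H ↔ (x i)⁻¹ * z * x i ∈ H
  have hin : ∀ i, Good i → ∀ z ∈ H, (y i)⁻¹ * z * x i ∈ H := by
    intro i hi z hz
    obtain ⟨z', hz', h'⟩ := hgen i
    have e : (y i)⁻¹ * z * x i = (y i)⁻¹ * z' * x i * ((x i)⁻¹ * (z'⁻¹ * z) * x i) := by group
    rw [e]
    exact H.mul_mem h' ((hi _).1 (H.mul_mem (H.inv_mem hz') hz))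
  have htriv : ∀ i, ¬ Good i → ∀ z ∈ H, (x i)⁻¹ * z * x i ∈ H → z = 1 := fun i hi =>
    (hTI (x i)).resolve_left hi
  by_cases hex : ∃ i, ¬ Good i
  swap
  · push Not at hex
    exact ⟨1, H.one_mem, fun i => hin i (hex i) 1 H.one_mem⟩
  obtain ⟨i₀, hi₀⟩ := hex
  obtain ⟨z₀, hz₀, hz₀'⟩ := hgen i₀
  refine ⟨z₀, hz₀, fun i => ?_⟩
  by_cases hi : Good i
  · exact hin i hi z₀ hz₀
  obtain ⟨z, hz, hz'⟩ := hgen i
  suffices z₀⁻¹ * z = 1 by rw [inv_mul_eq_one.1 this]; exact hz'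
  rcases eq_or_ne i₀ i with rfl | hne'
  · refine htriv i₀ hi₀ _ (H.mul_mem (H.inv_mem hz₀) hz) ?_
    have := H.mul_mem (H.inv_mem hz₀') hz'
    rwa [show ((y i₀)⁻¹ * z₀ * x i₀)⁻¹ * ((y i₀)⁻¹ * z * x i₀) = (x i₀)⁻¹ * (z₀⁻¹ * z) * x i₀ by
      group] at this
  obtain ⟨g, hg₁, hg₂⟩ := hp i₀ i hne'
  set z₁ := y₀⁻¹ * g * x₀
  have p1 : (x i₀)⁻¹ * (z₀⁻¹ * z₁) * x i₀ ∈ H := by
    have := H.mul_mem (H.inv_mem hz₀') ((htrans g i₀).1 hg₁)
    rwa [show ((y i₀)⁻¹ * z₀ * x i₀)⁻¹ * ((y i₀)⁻¹ * z₁ * x i₀) =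
      (x i₀)⁻¹ * (z₀⁻¹ * z₁) * x i₀ by group] at this
  have p2 : (x i)⁻¹ * (z⁻¹ * z₁) * x i ∈ H := by
    have := H.mul_mem (H.inv_mem hz') ((htrans g i).1 hg₂)
    rwa [show ((y i)⁻¹ * z * x i)⁻¹ * ((y i)⁻¹ * z₁ * x i) =
      (x i)⁻¹ * (z⁻¹ * z₁) * x i by group] at this
  have hsq' : ∀ (v w : G), v⁻¹ * w * v ∈ H → w * w = 1 := fun v w hw => by
    have h2 := hsq _ hw
    calc w * w = v * (v⁻¹ * w * v * (v⁻¹ * w * v)) * v⁻¹ := by group
      _ = 1 := by rw [h2]; group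
  set p := z₀⁻¹ * z₁
  set r := z⁻¹ * z₁
  set w := z₀⁻¹ * z with hw
  have hwH : w ∈ H := H.mul_mem (H.inv_mem hz₀) hz
  have hp2 := hsq' _ _ p1
  have hr2 := hsq' _ _ p2
  have hpi : p⁻¹ = p := inv_eq_of_mul_eq_one_right hp2
  have hri : r⁻¹ = r := inv_eq_of_mul_eq_one_right hr2
  have hwp : w = p * r := by
    rw [← hri, hw]
    show z₀⁻¹ * z = z₀⁻¹ * z₁ * (z⁻¹ * z₁)⁻¹
    group
  by_contra hw1
  have hcomm : p * r = r * p := by
    calc p * r = (p * r)⁻¹ := (inv_eq_of_mul_eq_one_right (hwp ▸ hsq w hwH)).symm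
      _ = r * p := by rw [mul_inv_rev, hpi, hri]
  -- `p` centralises `w`, hence normalises `H`
  have hpw : p⁻¹ * w * p = w := by
    rw [hwp, hpi]
    calc p * (p * r) * p = p * p * (r * p) := by group
      _ = p * r := by rw [hp2, one_mul, hcomm]
  have hpN : ∀ z, z ∈ H ↔ p⁻¹ * z * p ∈ H :=
    (hTI p).resolve_right fun h => hw1 (h w hwH (by rw [hpw]; exact hwH))
  have hpH : p ∈ H := hinv p hp2 hpN
  have hp1 : p = 1 := htriv i₀ hi₀ p hpH p1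
  rw [hp1, one_mul] at hwp
  exact hw1 (htriv i hi w hwH (hwp ▸ p2))

/-- Binary actions lift along surjective homomorphisms. -/
theorem IsBinary.comap {G' : Type*} [Group G'] {H : Subgroup G} (hb : IsBinary H) (f : G' →* G)
    (hf : Function.Surjective f) : IsBinary (H.comap f) := by
  intro n I J hn hp
  have key : ∀ (g : G') (x y : G' ⧸ H.comap f),
      g • x = y ↔ f g • ((f x.out : G) : G ⧸ H) = ((f y.out : G) : G ⧸ H) := by
    intro g x y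
    conv_lhs => rw [← QuotientGroup.out_eq' x, ← QuotientGroup.out_eq' y]
    rw [smul_eq_iff, smul_eq_iff, Subgroup.mem_comap, map_mul, map_mul, map_inv]
  obtain ⟨g, hg⟩ := hb n (fun i => ((f (I i).out : G) : G ⧸ H))
    (fun i => ((f (J i).out : G) : G ⧸ H)) hn fun i j hij => by
      obtain ⟨g, h1, h2⟩ := hp i j hij
      exact ⟨f g, (key _ _ _).1 h1, (key _ _ _).1 h2⟩
  obtain ⟨g', rfl⟩ := hf g
  exact ⟨g', fun i => (key _ _ _).2 (hg i)⟩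

end CfsgLib.BinaryAct
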