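import Cfsg.Agent.Lib.BinaryAct.Basic

/-!
# The triangle criterion for binary coset actions

For `z` in a conjugate of `H` write `InAll H z g` when `g` lies in every conjugate of `H` containing
`z`. If `l = y⁻¹ a`, the three lying in conjugates of `H`, and only `1` lies in all conjugates
through `a` or `y`, then a binary action forces `a` into every conjugate through `l`.
-/

set_option autoImplicit false

namespace CfsgLib.BinaryAct

variable {G : Type*} [Group G]

/-- `g` lies in every conjugate of `H` which contains `z`. -/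
def InAll (H : Subgroup G) (z g : G) : Prop := ∀ p : G, p⁻¹ * z * p ∈ H → p⁻¹ * g * p ∈ H

theorem InAll.mem {H : Subgroup G} {z g : G} (h : InAll H z g) (hz : z ∈ H) : g ∈ H := by
  simpa using h 1 (by simpa using hz)

theorem inAll_self (H : Subgroup G) (z : G) : InAll H z z := fun _ h => h

theorem inAll_one (H : Subgroup G) (z : G) : InAll H z 1 := fun p _ => by simp

theorem InAll.mul {H : Subgroup G} {z g h : G} (hg : InAll H z g) (hh : InAll H z h) :
    InAll H z (g * h) := fun p hp => by
  have := mul_mem (hg p hp) (hh p hp)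
  simpa [mul_assoc] using this

theorem InAll.inv {H : Subgroup G} {z g : G} (hg : InAll H z g) : InAll H z g⁻¹ := fun p hp => by
  have := inv_mem (hg p hp)
  simpa [mul_assoc] using this

/-- The elements lying in every conjugate of `H` through `z`. -/
def allThrough (H : Subgroup G) (z : G) : Subgroup G where
  carrier := {g | InAll H z g}
  mul_mem' := InAll.mul
  one_mem' := inAll_one H z
  inv_mem' := InAll.inv

theorem mem_allThrough {H : Subgroup G} {z g : G} : g ∈ allThrough H z ↔ InAll H z g := Iff.rfl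

theorem InAll.conj {H : Subgroup G} {z g : G} (h : InAll H z g) (c : G) :
    InAll H (c * z * c⁻¹) (c * g * c⁻¹) := fun p hp => by
  have := h (c⁻¹ * p) (by simpa [mul_assoc] using hp)
  simpa [mul_assoc] using this

theorem inAll_conj_iff {H : Subgroup G} {z g : G} (c : G) :
    InAll H (c * z * c⁻¹) (c * g * c⁻¹) ↔ InAll H z g := by
  refine ⟨fun h => ?_, fun h => h.conj c⟩
  simpa [mul_assoc] using h.conj c⁻¹

/-- Elements commuting with `z` normalise the intersection. -/
theorem InAll.conj_of_commute {H : Subgroup G} {z g c : G} (h : InAll H z g) (hc : c * z = z * c) :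
    InAll H z (c * g * c⁻¹) := by
  have := h.conj c
  rwa [hc, mul_inv_cancel_right] at this

theorem inAll_map {H : Subgroup G} (k z g : G) :
    InAll (H.map (MulAut.conj k).toMonoidHom) z g ↔ InAll H z g := by
  have e : ∀ w, w ∈ H.map (MulAut.conj k).toMonoidHom ↔ k⁻¹ * w * k ∈ H := fun w => by
    rw [Subgroup.mem_map_equiv, MulAut.conj_symm_apply]
  simp only [InAll, e]
  constructor
  · intro h p hp
    simpa [mul_assoc] using h (p * k⁻¹) (by simpa [mul_assoc] using hp)
  · intro h p hp
    simpa [mul_assoc] using h (p * k) (by simpa [mul_assoc] using hp)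

/-- The triangle criterion. -/
theorem IsBinary.triangle [Finite G] {H : Subgroup G} (hb : IsBinary H) (a y : G)
    (ha : ∃ p : G, p⁻¹ * a * p ∈ H)
    (hab : ∀ g : G, InAll H a g → InAll H y g → g = 1) : InAll H (y⁻¹ * a) a := by
  obtain ⟨p₀, hp₀⟩ := ha
  set H' := H.map (MulAut.conj p₀).toMonoidHom with hH'
  have haH : a ∈ H' := ⟨p₀⁻¹ * a * p₀, hp₀, by
    show p₀ * (p₀⁻¹ * a * p₀) * p₀⁻¹ = a
    group⟩
  refine (inAll_map p₀ _ _).1 fun c hc => ?_
  obtain ⟨g, -, hgp, hgc⟩ := (hb.map p₀).exists_fix
    (ι := {p : G // p⁻¹ * a * p ∈ H' ∨ p⁻¹ * y * p ∈ H'}) (fun p => p.1) c a haH (fun p => by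
      rcases p.2 with h | h
      · exact ⟨a, h, by simp⟩
      · exact ⟨y, h, hc⟩)
  have h1 : g = 1 := hab g ((inAll_map p₀ _ _).1 fun p hp => hgp ⟨p, Or.inl hp⟩)
    ((inAll_map p₀ _ _).1 fun p hp => hgp ⟨p, Or.inr hp⟩)
  simpa [h1] using hgc

end CfsgLib.BinaryAct
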